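import Cfsg.Agent.H750.RM.Two
import Cfsg.Agent.H795.Tw

/-!
# S3849, piece X1 for `³D₄(q)` (helper641): `CenTwo p S`, `p` odd

The toral 2-group is `⟨h_d(i) : d a long root fixed by the triality⟩`, of type `C₄ × C₄`, in a torus on which the
Frobenius map is `ε q`.
-/

set_option autoImplicit false
set_option linter.unusedSectionVars false

namespace Cfsg.Agent.H641.RM

open CoxeterSystem Cfsg Cfsg.Lie Cfsg.Lie.ChevalleyDatum
open Cfsg.Agent.ChevalleyStructure Cfsg.Agent.ChevalleyStructure.Elts Cfsg.Agent.ChevalleyStructure.CoxeterGeom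
  Cfsg.Agent.ChevalleyStructure.CoxeterGeomTypes Cfsg.Agent.ChevalleyStructure.NPerm
open Cfsg.Agent.Tits.Roots Cfsg.Agent.Tits.Core Cfsg.Agent.Nodes Cfsg.Agent.Nodes.Reps Cfsg.Agent.Nodes.BNOf
  Cfsg.Agent.Nodes.RGDChev Cfsg.Agent.Nodes.Bruhat Cfsg.Agent.Nodes.NormalForm
open Cfsg.Agent.KFacts.RgdField Cfsg.Agent.KFacts.RgdChevCoord
open Cfsg.Agent.BpExc Cfsg.Agent.BpExc.TorCent Cfsg.Agent.BpExc.TorChev Cfsg.Agent.BpExc.Tow
  Cfsg.Agent.BpExc.TowChev Cfsg.Agent.BpExc.Fr Cfsg.Agent.BpExc.Pair Cfsg.Agent.BpExc.LangFr Cfsg.Agent.GpExc.Field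
  Cfsg.Agent.BpExc.TorAll
open Cfsg.Agent.H469.Exc Cfsg.Agent.H469.Exc.SigFr
open Cfsg.Agent.Nodes.RGDFoldSL
open Cfsg.Agent.ChevalleyStructure.SL2Hom (up lo mem_closure_SL2)
open Cfsg.Agent.H167.EX Cfsg.Agent.H795.LangT Cfsg.Agent.H129.TorusChar Cfsg.Agent.H129.TorusUntw
open Cfsg.Agent.H553.ExtRed Cfsg.Agent.H988.CPi Cfsg.Agent.H795.Core Cfsg.Agent.H720.TwFr Cfsg.Agent.H554.BS
open Cfsg.Agent.H566.OmFE Cfsg.Agent.H750.RM
open scoped commutatorElement Pointwise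

universe u v w

section core

variable {D : ChevalleyDatum} {l : ℕ} {M : CoxeterMatrix (Fin l)} (hp : IsType D l M)

/-- **Elements of odd order commuting with the involutions `h_d(-1)`, `d ∈ L1`, lie in `TT`.** -/
theorem mem_TT_of_par {k : Type u} [Field k] (h2 : (2 : k) ≠ 0) (p : ℕ) [Fact p.Prime] [CharP k p] (hk : LocFin k) {L1 : List ℕ}
    (K : ∀ b < D.nroots, ∃ d ∈ L1, HMatDiagAll.expo D d b % 2 ≠ 0) (hL : ∀ d ∈ L1, d < D.nroots) {i : k} (hi : i * i = -1) {v : ↥(D.group k)} {m : ℕ} (hm : Odd m)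
    (hvm : v ^ m = 1) (hv : ∀ d ∈ L1, xd hp i d ^ 2 * v = v * xd hp i d ^ 2) : v ∈ TT D k := by
  have hi0 : i ≠ 0 := by rintro rfl; rw [mul_zero] at hi; exact one_ne_zero (neg_eq_zero.1 hi.symm)
  obtain ⟨j, hj⟩ := pow_mem_set hp hk p (S := {x | ∃ d ∈ L1, x = xd hp i d ^ 2}) (by
    rintro _ ⟨d, -, rfl⟩
    exact pow_mem (xd_mem hp hi0 d) 2) Nat.prime_two (by
    rintro _ ⟨d, -, rfl⟩
    refine ⟨1, ?_⟩
    rw [pow_one, ← pow_mul]
    exact xd_four hp hi d) (g := v) (by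
    rintro _ ⟨d, hd, rfl⟩
    exact (hv d hd).symm)
  refine mem_of_pow hm hvm ((sup_le (RGD.Sup_le fun a ha => ?_) le_rfl : _ ≤ TT D k) hj)
  exfalso
  obtain ⟨b, hb, rfl⟩ := (isRoot_iff hp M.toCoxeterSystem a).1 ha.1
  obtain ⟨d, hd, hodd⟩ := K b hb
  have h3 := ha.2 _ ⟨d, hd, rfl⟩
  rw [ch_pow hp p hk hb (xd_mem hp hi0 d), ch_xd hp p hk hi0 (hL d hd) hb] at h3
  exact hodd (even_of_sq h2 hi h3)

/-- **The core** (`H750.RM.cen_core` with the parity condition only). -/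
theorem cen_core_of_par {k : Type u} [Field k] [IsAlgClosed k] (h2 : (2 : k) ≠ 0) (p : ℕ) [Fact p.Prime] [CharP k p]
    (hk : LocFin k) (hA : HAlg p k) (hc : cnt D l = true) {L1 : List ℕ}
    (K : ∀ b < D.nroots, ∃ d ∈ L1, HMatDiagAll.expo D d b % 2 ≠ 0)
    (hL1 : ∀ d ∈ L1, d < D.nroots) (hL0 : L1 ≠ []) (htwo : ∀ d ∈ L1, two D d = true) {i : k} (hi : i * i = -1)
    {S : Type v} [Group S] [Finite S] (f : S →* ↥(D.group k)) (hf : Function.Injective f) (z : ↥(D.group k))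
    (hX : ∀ d ∈ L1, ∃ a, f a = z * xd hp i d * z⁻¹) : CenTwo p S := by
  have hi0 := i_ne_zero hi
  have hTab := TTab (k := k) hp
  let B : Subgroup S :=
    { carrier := {a | z⁻¹ * f a * z ∈ TT D k ∧ a ^ 4 = 1}
      one_mem' := ⟨by rw [map_one, mul_one, inv_mul_cancel]; exact one_mem _, one_pow _⟩
      mul_mem' := by
        rintro a b ⟨ha, ha4⟩ ⟨hb, hb4⟩
        have hab : Commute a b := by
          have h1 := hTab _ ha _ hb
          apply hf
          rw [map_mul, map_mul]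
          calc f a * f b = z * ((z⁻¹ * f a * z) * (z⁻¹ * f b * z)) * z⁻¹ := by group
            _ = z * ((z⁻¹ * f b * z) * (z⁻¹ * f a * z)) * z⁻¹ := by rw [h1]
            _ = f b * f a := by group
        refine ⟨?_, by rw [hab.mul_pow, ha4, hb4, one_mul]⟩
        have e : z⁻¹ * f (a * b) * z = (z⁻¹ * f a * z) * (z⁻¹ * f b * z) := by rw [map_mul]; group
        rw [e]
        exact mul_mem ha hb
      inv_mem' := by
        rintro a ⟨ha, ha4⟩
        refine ⟨?_, by rw [inv_pow, ha4, inv_one]⟩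
        have e : z⁻¹ * f a⁻¹ * z = (z⁻¹ * f a * z)⁻¹ := by rw [map_inv]; group
        rw [e]
        exact inv_mem ha }
  have hBmem : ∀ a, a ∈ B ↔ z⁻¹ * f a * z ∈ TT D k ∧ a ^ 4 = 1 := fun a => Iff.rfl
  -- the elements of `X`
  have hXB : ∀ d ∈ L1, ∃ a ∈ B, f a = z * xd hp i d * z⁻¹ := by
    intro d hd
    obtain ⟨a, ha⟩ := hX d hd
    refine ⟨a, (hBmem a).2 ⟨?_, ?_⟩, ha⟩
    · rw [ha]
      have e : z⁻¹ * (z * xd hp i d * z⁻¹) * z = xd hp i d := by group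
      rw [e]
      exact xd_mem hp hi0 d
    · apply hf
      rw [map_pow, ha, conj_pow, xd_four hp hi, mul_one, mul_inv_cancel, map_one]
  refine ⟨B, ?_, ?_, ?_⟩
  · intro a
    refine ⟨2, Subtype.ext ?_⟩
    have := ((hBmem a).1 a.2).2
    rw [Subgroup.coe_pow]
    exact this
  · obtain ⟨d, hd⟩ := List.exists_mem_of_ne_nil L1 hL0
    obtain ⟨a, ha, hfa⟩ := hXB d hd
    intro hB
    rw [hB, Subgroup.mem_bot] at ha
    rw [ha, map_one] at hfa
    have h1 : xd hp i d = 1 := by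
      have e : xd hp i d = z⁻¹ * (z * xd hp i d * z⁻¹) * z := by group
      rw [e, ← hfa]; group
    have h3 := ch_xd hp p hk hi0 (hL1 d hd) (hL1 d hd)
    rw [h1, ch_one hp p hk (hL1 d hd)] at h3
    have h4 : HMatDiagAll.expo D d d = 2 := by unfold HMatDiagAll.expo; rw [if_pos rfl]
    rw [h4] at h3
    have h5 : i ^ (2 : ℤ) = i * i := by rw [show (2 : ℤ) = ((2 : ℕ) : ℤ) by norm_num, zpow_natCast, pow_two]
    rw [h5, hi] at h3
    apply h2
    linear_combination h3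
  · intro A hab hA6 hn b hb a ha
    set m := Nat.card A with hm
    have hm0 : m ≠ 0 := Nat.card_pos.ne'
    have h6 : m.Coprime 6 := by
      rw [Nat.coprime_iff_gcd_eq_one]
      by_contra hne
      obtain ⟨t, ht, htd⟩ := Nat.exists_prime_and_dvd hne
      have h1 := hA6 t ht (htd.trans (Nat.gcd_dvd_left _ _))
      have h2 : t ∣ 2 * 3 := htd.trans (Nat.gcd_dvd_right _ _)
      rcases (ht.dvd_mul).1 h2 with h2 | h2
      · exact h1.1 ((Nat.prime_dvd_prime_iff_eq ht Nat.prime_two).1 h2)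
      · exact h1.2.1 ((Nat.prime_dvd_prime_iff_eq ht Nat.prime_three).1 h2)
    have hmp : m.Coprime p := by
      rw [Nat.coprime_comm, Nat.Prime.coprime_iff_not_dvd Fact.out]
      intro h
      exact (hA6 p Fact.out h).2.2 rfl
    have hodd : Odd m := Nat.coprime_two_right.1 (Nat.Coprime.coprime_dvd_right (by norm_num) h6)
    -- the conjugate of `f A`
    let N : Subgroup ↥(D.group k) := (A.map f).map (MulAut.conj z⁻¹).toMonoidHom
    have hNmem : ∀ {x}, x ∈ N ↔ ∃ a ∈ A, z⁻¹ * f a * z = x := by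
      intro x
      constructor
      · rintro ⟨_, ⟨a, ha, rfl⟩, rfl⟩
        refine ⟨a, ha, ?_⟩
        show z⁻¹ * f a * z = z⁻¹ * f a * z⁻¹⁻¹
        rw [inv_inv]
      · rintro ⟨a, ha, rfl⟩
        refine ⟨_, ⟨a, ha, rfl⟩, ?_⟩
        show z⁻¹ * f a * z⁻¹⁻¹ = z⁻¹ * f a * z
        rw [inv_inv]
    have hNab : ∀ x ∈ N, ∀ y ∈ N, x * y = y * x := by
      intro x hx y hy
      obtain ⟨a, ha, rfl⟩ := hNmem.1 hx
      obtain ⟨b, hb, rfl⟩ := hNmem.1 hy
      calc z⁻¹ * f a * z * (z⁻¹ * f b * z) = z⁻¹ * f (a * b) * z := by rw [map_mul]; group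
        _ = z⁻¹ * f (b * a) * z := by rw [hab a ha b hb]
        _ = _ := by rw [map_mul]; group
    have hNm : ∀ x ∈ N, x ^ m = 1 := by
      intro x hx
      obtain ⟨a, ha, rfl⟩ := hNmem.1 hx
      have h1 : (⟨a, ha⟩ : A) ^ m = 1 := pow_card_eq_one'
      have h3 : a ^ m = 1 := congrArg Subtype.val h1
      have e : (z⁻¹ * f a * z) ^ m = z⁻¹ * (f a) ^ m * z := by
        have := conj_pow (i := m) (a := z⁻¹) (b := f a)
        rwa [inv_inv] at this
      rw [e, ← map_pow, h3, map_one, mul_one, inv_mul_cancel]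
    have hsq : ∀ d ∈ L1, ∀ n ∈ N, xd hp i d ^ 2 * n = n * xd hp i d ^ 2 := by
      intro d hd n hnN
      refine sq_comm hp p hk hA hc (xd_four hp hi d) (ker_xd hp h2 hi (hL1 d hd) (htwo d hd)) hNab ?_ hNm h6 hmp hnN
      intro x hx
      obtain ⟨a, ha, rfl⟩ := hNmem.1 hx
      obtain ⟨c, hcB, hfc⟩ := hXB d hd
      have h1 := (Subgroup.mem_normalizer_iff.1 (hn hcB) a).1 ha
      refine hNmem.2 ⟨_, h1, ?_⟩
      rw [map_mul, map_mul, map_inv, hfc]
      group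
    have hT : ∀ a ∈ A, z⁻¹ * f a * z ∈ TT D k := by
      intro a ha
      refine mem_TT_of_par hp h2 p hk K hL1 hi hodd (hNm _ (hNmem.2 ⟨a, ha, rfl⟩)) fun d hd => ?_
      exact hsq d hd _ (hNmem.2 ⟨a, ha, rfl⟩)
    have h1 := hTab _ ((hBmem b).1 hb).1 _ (hT a ha)
    apply hf
    rw [map_mul, map_mul]
    calc f b * f a = z * ((z⁻¹ * f b * z) * (z⁻¹ * f a * z)) * z⁻¹ := by group
      _ = z * ((z⁻¹ * f a * z) * (z⁻¹ * f b * z)) * z⁻¹ := by rw [h1]
      _ = f a * f b := by group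


end core

/-! ### the tables for `D₄` -/

/-- two long roots fixed by the triality -/
def LD4 : List ℕ := [14, 22]

/-- four orthogonal roots -/
def FD4 : List ℕ := [12, 13, 18, 23]

theorem ltLD4 : ∀ s ∈ LD4, s < chevD4.nroots := by decide +kernel
theorem ltFD4 : ∀ s ∈ FD4, s < chevD4.nroots := by decide +kernel
theorem twoD4 : ∀ s ∈ LD4, two chevD4 s = true := by decide +kernel
theorem rhoD4 : ∀ i : Fin 4, rhoL chevD4 4 FD4 (sr i) = -sr i := by decide +kernel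
theorem parD4 : ∀ b < chevD4.nroots, ∃ d ∈ LD4, HMatDiagAll.expo chevD4 d b % 2 ≠ 0 := by decide +kernel
theorem aD4 : ∀ s ∈ LD4, ∀ i : Fin 4, fs chevD4 4 s ((permE rho4).symm (sr i)) = fs chevD4 4 s (sr i) := by
  decide +kernel

theorem fs_rho4 {s : ℕ} (hs : s ∈ LD4) (x : Fin 4 → ℤ) : fs chevD4 4 s ((permE rho4).symm x) = fs chevD4 4 s x :=
  addHom_ext (f := (fsM chevD4 4 s).comp (permE rho4).symm.toAddMonoidHom) (g := fsM chevD4 4 s)
    (fun i => aD4 s hs i) x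

theorem rho_neg (x : Fin 4 → ℤ) : rhoL chevD4 4 FD4 x = -x :=
  addHom_ext (f := rhoM chevD4 4 FD4) (g := -AddMonoidHom.id _) (fun i => by
    rw [rhoM_apply, rhoD4]
    rfl) x

theorem fs_four {s : ℕ} (hs : s ∈ LD4) {ε : ℤ} (hε : ε = 1 ∨ ε = -1) (x : Fin 4 → ℤ) :
    fs chevD4 4 s ((permE rho4).symm (rhoL chevD4 4 (if ε = 1 then [] else FD4) x)) = ε * fs chevD4 4 s x := by
  rw [fs_rho4 hs]
  rcases hε with rfl | rfl
  · rw [if_pos rfl, one_mul]
    rfl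
  · rw [if_neg (by norm_num), rho_neg, neg_mul, one_mul]
    exact map_neg (fsM chevD4 4 s) x

/-- **`³D₄(q)`, `q` odd.** -/
theorem cen_d4 {F : Type} [Field F] [Fintype F] {p : ℕ} (hpp : p.Prime) (hp2 : p ≠ 2) [hFp : CharP F p] {q : ℕ}
    (hq : IsPrimePow q) (hK : Fintype.card F = q ^ 3) {S : Type v} [Group S] [Finite S]
    (hS : Nonempty (S ≃* twistedD4 F q)) : CenTwo p S := by
  obtain ⟨r, n, hr, hrF, hrk, hn0, hn, hk⟩ := Cfsg.Agent.H795.Tw.exists_closure_q (K := F) three_ne_zero hq hK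
  have hpe : r = p := CharP.eq F hrF hFp
  subst hpe
  have := Fact.mk Nat.prime_two
  have set2 := Cfsg.Agent.H795.Tw.setup_four (algebraMap F (AlgebraicClosure F)) r (tw4_le hq hK) hk hn0 hn hK (p := 2)
  set k := AlgebraicClosure F with hkdef
  have h2 : (2 : k) ≠ 0 := by
    intro h
    have h1 : r ∣ 2 := (CharP.cast_eq_zero_iff k r 2).1 (by exact_mod_cast h)
    exact hp2 ((Nat.prime_dvd_prime_iff_eq hpp Nat.prime_two).1 h1)
  obtain ⟨i, hi⟩ := exists_i k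
  have hi0 := i_ne_zero hi
  have hodd : Odd (r ^ n) := (hpp.eq_two_or_odd'.resolve_left hp2).pow
  obtain ⟨ε, hε, h4⟩ := exists_eps hodd
  have hL : ∀ s ∈ (if ε = 1 then [] else FD4 : List ℕ), s < chevD4.nroots := by
    intro s hs
    split_ifs at hs with h
    · exact absurd hs List.not_mem_nil
    · exact ltFD4 s hs
  obtain ⟨z, hz, hiff⟩ := exists_twist_all hp4 hk set2.e_pos set2.frob set2.fr hL
  obtain ⟨φ⟩ := hS
  let f : S →* ↥(chevD4.group k) := (em4 (algebraMap F (AlgebraicClosure F)) (tw4_le hq hK)).comp φ.toMonoidHom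
  have hf : Function.Injective f := set2.inj.comp φ.injective
  have hfφ : ∀ y, f (φ.symm y) = em4 (algebraMap F (AlgebraicClosure F)) (tw4_le hq hK) y := fun y => by
    show em4 (algebraMap F (AlgebraicClosure F)) (tw4_le hq hK) (φ (φ.symm y)) = _
    rw [MulEquiv.apply_symm_apply]
  refine cen_core_of_par hp4 h2 r hk (hAlg_of_locFin hk r) cnt_D4 parD4 ltLD4 (by decide) twoD4 hi f hf z
    fun s hs => ?_
  have hlt := ltLD4 s hs
  have h1 := fixed_ph hp4 hk hiff (eps_sq hε) hlt r (fun x => fs_four hs hε x) (n := 4) (by exact_mod_cast h4)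
    hi0 (i_four hi)
  obtain ⟨y, hy⟩ := set2.p_mem _ h1 ⟨2, by
    rw [show (2 : ℕ) ^ 2 = 4 by norm_num, conj_pow, ← map_pow, hS_pow hi0, i_four hi, hS_one, map_one]; group⟩
  refine ⟨φ.symm y, ?_⟩
  rw [xd_lt hp4 hlt, hfφ, hy]

end Cfsg.Agent.H641.RM
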