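import Cfsg.Agent.H641.RM.DTwo
import Cfsg.Agent.H750.RM.TwoRows
import Cfsg.Agent.H550.RV.R3Small

/-!
# S3849: the row of `³D₄(q)`, `2 ∈ π`, `3, p ∉ π` (helper641)
-/

set_option autoImplicit false

namespace Cfsg.Agent.H641.RM

open Cfsg Cfsg.Agent.H988.CPi Cfsg.Agent.H571.DExt Cfsg.Agent.H571.RV Cfsg.Agent.H571.RM

universe u

/-- **The field `d4_3` of `H959.RM.OpenM`.** -/
theorem d4_3 {π : Set ℕ} {S : Type u} [Group S] [Finite S] [IsSimpleGroup S] (hna : ¬ IsMulCommutative S) (h2 : 2 ∈ π)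
    (h3 : 3 ∉ π) (p : ℕ) (hp : p.Prime) (hpπ : p ∉ π) (F : Type) [Field F] [Fintype F] [CharP F p] (q : ℕ)
    (hq : IsPrimePow q) (hF : Fintype.card F = q ^ 3) (he : Nonempty (S ≃* Lie.twistedD4 F q)) : RowM π S :=
  H750.RM.rowM_of_cenTwo hna h2 h3 hpπ (cen_d4 hp (H750.RM.ne_two h2 hpπ) hq hF he) fun hD =>
    Or.inr (H550.RV.fTwo_d4 h2 h3 hp hpπ F q hq hF he (DB.of_dom hD))

end Cfsg.Agent.H641.RM
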